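/-
Systems of parameters in a semi-local Noetherian ring: dimension bookkeeping and prime avoidance.
-/
import Mathlib

set_option autoImplicit false

universe u

open Order

namespace Groth.Agent.ParamSemiLoc

variable {A : Type u} [CommRing A]

/-- The dimension of the closed set `V(I)` in terms of a finite module `M`. -/
theorem supportDim_quotient_smul_top {M : Type u} [AddCommGroup M] [Module A M] [Module.Finite A M]
    (I : Ideal A) :
    Module.supportDim A (M ⧸ (I • ⊤ : Submodule A M)) = ringKrullDim (A ⧸ (Module.annihilator A M ⊔ I)) := by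
  rw [Module.supportDim, ringKrullDim_quotient, Module.support_quotient, Module.support_eq_zeroLocus,
    PrimeSpectrum.zeroLocus_sup]

/-- A bound for the dimension of a quotient by chains of primes. -/
theorem ringKrullDim_quotient_le_iff (I : Ideal A) (n : ℕ) :
    ringKrullDim (A ⧸ I) ≤ (n : WithBot ℕ∞) ↔
      ∀ l : LTSeries (PrimeSpectrum A), I ≤ l.head.asIdeal → l.length ≤ n := by
  rw [ringKrullDim_quotient, Order.krullDim, iSup_le_iff]
  constructor
  · intro h l hl
    have h1 := h
      { length := l.length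
        toFun := fun i => ⟨l i, fun x hx => l.monotone (Fin.zero_le _) (hl hx)⟩
        step := fun i => l.step i }
    exact_mod_cast h1
  · intro h l
    have h1 := h (l.map Subtype.val fun _ _ hlt => hlt)
      (by rw [LTSeries.head_map]; exact l.head.2)
    exact_mod_cast h1

/-- Cutting by an element lying in no non-maximal minimal prime drops the dimension. -/
theorem ringKrullDim_quotient_sup_span_le {I : Ideal A} {y : A}
    (hy : ∀ P ∈ I.minimalPrimes, ¬ P.IsMaximal → y ∉ P) {n : ℕ}
    (hI : ringKrullDim (A ⧸ I) ≤ ((n + 1 : ℕ) : WithBot ℕ∞)) :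
    ringKrullDim (A ⧸ (I ⊔ Ideal.span {y})) ≤ (n : WithBot ℕ∞) := by
  rw [ringKrullDim_quotient_le_iff] at hI ⊢
  intro l hl
  rcases Nat.eq_zero_or_pos l.length with h0 | h0
  · omega
  have hIl : I ≤ l.head.asIdeal := le_sup_left.trans hl
  obtain ⟨P, hP, hPl⟩ := Ideal.exists_minimalPrimes_le hIl
  have hlast : l.head < l.last := LTSeries.head_le_last l |>.lt_of_ne fun h => by
    have := l.strictMono (show (0 : Fin (l.length + 1)) < Fin.last _ by
      rw [Fin.lt_def]; simpa using h0)
    exact this.ne h
  have hnm : ¬ P.IsMaximal := fun hm => by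
    have hlt : P < l.last.asIdeal := lt_of_le_of_lt hPl hlast
    exact l.last.isPrime.ne_top (hm.1.2 _ hlt)
  let r : PrimeSpectrum A := ⟨P, hP.1.1⟩
  have hr : r < l.head := lt_of_le_of_ne hPl fun h => hy P hP hnm (by
    rw [show P = l.head.asIdeal from congrArg PrimeSpectrum.asIdeal h]
    exact hl (Ideal.mem_sup_right (Ideal.mem_span_singleton_self y)))
  have := hI (l.cons r hr) (by rw [RelSeries.head_cons]; exact hP.1.2)
  rw [RelSeries.cons_length] at this
  omega

section Jacobson

/-- In a semi-local ring the only primes containing the Jacobson radical are maximal. -/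
theorem isMaximal_of_jacobson_le [Finite (MaximalSpectrum A)] {P : Ideal A} (hP : P.IsPrime)
    (h : Ring.jacobson A ≤ P) : P.IsMaximal := by
  classical
  have := Fintype.ofFinite (MaximalSpectrum A)
  have hle : (Finset.univ : Finset (MaximalSpectrum A)).inf (fun m => m.asIdeal) ≤ P := by
    refine le_trans ?_ h
    rw [Ring.jacobson_eq_sInf_isMaximal]
    refine le_sInf fun m hm => ?_
    exact Finset.inf_le (f := fun m : MaximalSpectrum A => m.asIdeal)
      (b := (⟨m, hm⟩ : MaximalSpectrum A)) (Finset.mem_univ _)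
  obtain ⟨m, -, hm⟩ := hP.inf_le'.mp hle
  rw [← m.isMaximal.eq_of_le hP.ne_top hm]
  exact m.isMaximal

variable [IsNoetherianRing A] [Finite (MaximalSpectrum A)]

/-- An element of `a` and of the Jacobson radical avoiding all non-maximal minimal primes over `I`. -/
theorem exists_mem_notMem (I a : Ideal A) (ha : ∀ P ∈ I.minimalPrimes, ¬ P.IsMaximal → ¬ a ≤ P) :
    ∃ y ∈ a, y ∈ Ring.jacobson A ∧ ∀ P ∈ I.minimalPrimes, ¬ P.IsMaximal → y ∉ P := by
  classical
  have hfin : {P ∈ I.minimalPrimes | ¬ P.IsMaximal}.Finite :=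
    I.finite_minimalPrimes_of_isNoetherianRing.subset fun P hP => hP.1
  by_contra hne
  push Not at hne
  have hsub : ((a ⊓ Ring.jacobson A : Ideal A) : Set A) ⊆ ⋃ P ∈ (hfin.toFinset : Set (Ideal A)), ↑P := by
    intro y hy
    obtain ⟨P, h1, h2, h3⟩ := hne y hy.1 hy.2
    exact Set.mem_biUnion (hfin.mem_toFinset.2 ⟨h1, h2⟩) h3
  obtain ⟨P, hP, hle⟩ := (Ideal.subset_union_prime ⊥ ⊥ fun P hP _ _ =>
    (hfin.mem_toFinset.1 hP).1.1.1).1 hsub
  obtain ⟨hP1, hP2⟩ := hfin.mem_toFinset.1 hP
  have hPp : P.IsPrime := hP1.1.1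
  rcases hPp.inf_le.1 hle with h | h
  · exact ha P hP1 hP2 h
  · exact hP2 (isMaximal_of_jacobson_le hPp h)

/-- A semi-local Noetherian ring has finite dimension. -/
theorem exists_ringKrullDim_le : ∃ n : ℕ, ringKrullDim A ≤ (n : WithBot ℕ∞) := by
  classical
  have := Fintype.ofFinite (MaximalSpectrum A)
  refine ⟨(Finset.univ : Finset (MaximalSpectrum A)).sup fun m => m.asIdeal.height.toNat, ?_⟩
  rw [ringKrullDim_le_iff_isMaximal_height_le]
  intro m hm
  have h1 : m.height = m.height.toNat := (ENat.natCast_toNat (Ideal.height_ne_top hm.ne_top)).symm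
  rw [h1]
  exact_mod_cast Finset.le_sup (f := fun m : MaximalSpectrum A => m.asIdeal.height.toNat)
    (Finset.mem_univ ⟨m, hm⟩)

end Jacobson

section Noetherian

variable [IsNoetherianRing A]

/-- One element of the Jacobson radical lowers the dimension by at most one. -/
theorem ringKrullDim_quotient_le_succ (I : Ideal A) {z : A} (hz : z ∈ Ring.jacobson A) :
    ringKrullDim (A ⧸ I) ≤ ringKrullDim (A ⧸ (I ⊔ Ideal.span {z})) + 1 := by
  have h := Module.supportDim_le_supportDim_quotSMulTop_succ_of_mem_jacobson (M := A ⧸ I)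
    ((Module.annihilator A (A ⧸ I)).ringJacobson_le_jacobson hz)
  rwa [Module.supportDim_quotient_eq_ringKrullDim, Module.supportDim, Module.support_quotSMulTop,
    Module.support_eq_zeroLocus, Ideal.annihilator_quotient, ← PrimeSpectrum.zeroLocus_span {z},
    ← PrimeSpectrum.zeroLocus_sup, ← ringKrullDim_quotient] at h

/-- `k` elements of the Jacobson radical lower the dimension by at most `k`. -/
theorem ringKrullDim_quotient_le_add (zs : List A) :
    ∀ I : Ideal A, (∀ z ∈ zs, z ∈ Ring.jacobson A) →
      ringKrullDim (A ⧸ I) ≤ ringKrullDim (A ⧸ (I ⊔ Ideal.ofList zs)) + zs.length := by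
  induction zs with
  | nil => intro I _; rw [Ideal.ofList_nil, sup_bot_eq]; simp
  | cons z zs ih =>
    intro I hz
    refine (ringKrullDim_quotient_le_succ I (hz z List.mem_cons_self)).trans ?_
    have h := ih (I ⊔ Ideal.span {z}) fun x hx => hz x (List.mem_cons_of_mem _ hx)
    rw [sup_assoc, ← Ideal.ofList_cons] at h
    refine (add_le_add h le_rfl).trans (le_of_eq ?_)
    rw [List.length_cons, Nat.cast_add, Nat.cast_one, add_assoc]

variable [Finite (MaximalSpectrum A)]

/-- Parameters exist. -/
theorem exists_parameters : ∀ (n : ℕ) (I : Ideal A), ringKrullDim (A ⧸ I) ≤ (n : WithBot ℕ∞) →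
    ∃ ys : List A, ys.length = n ∧ (∀ y ∈ ys, y ∈ Ring.jacobson A) ∧
      ringKrullDim (A ⧸ (I ⊔ Ideal.ofList ys)) ≤ 0 := by
  intro n
  induction n with
  | zero =>
    intro I hI
    exact ⟨[], rfl, by simp, by rw [Ideal.ofList_nil, sup_bot_eq]; simpa using hI⟩
  | succ n ih =>
    intro I hI
    obtain ⟨y, -, hy, hy'⟩ := exists_mem_notMem I ⊤ fun P hP _ h =>
      (hP.1.1).ne_top (top_le_iff.1 h)
    obtain ⟨ys, h1, h2, h3⟩ := ih (I ⊔ Ideal.span {y}) (ringKrullDim_quotient_sup_span_le hy' hI)
    refine ⟨y :: ys, by simp [h1], fun z hz => ?_, ?_⟩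
    · rcases List.mem_cons.1 hz with rfl | hz
      · exact hy
      · exact h2 z hz
    · rwa [Ideal.ofList_cons, ← sup_assoc]

end Noetherian

section FiniteLength

theorem isMaximal_of_mem_support {N : Type u} [AddCommGroup N] [Module A N] (hN : IsFiniteLength A N) :
    ∀ p ∈ Module.support A N, p.asIdeal.IsMaximal := by
  induction hN with
  | of_subsingleton => simp [Module.support_eq_empty]
  | @of_simple_quotient M _ _ N _ _ ih =>
    intro p hp
    rw [Module.support_of_exact (LinearMap.exact_subtype_mkQ N) N.injective_subtype N.mkQ_surjective] at hp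
    rcases hp with hp | hp
    · exact ih p hp
    · obtain ⟨n, hn, ⟨e⟩⟩ := isSimpleModule_iff_quot_maximal.1 (inferInstance : IsSimpleModule A (M ⧸ N))
      rw [e.support_eq, Module.support_eq_zeroLocus, Ideal.annihilator_quotient] at hp
      rw [← hn.eq_of_le p.isPrime.ne_top hp]
      exact hn

variable [IsNoetherianRing A]

/-- Finite length is dimension at most zero. -/
theorem isFiniteLength_quotient_smul_top_iff {M : Type u} [AddCommGroup M] [Module A M]
    [Module.Finite A M] (I : Ideal A) :
    IsFiniteLength A (M ⧸ (I • ⊤ : Submodule A M)) ↔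
      ringKrullDim (A ⧸ (Module.annihilator A M ⊔ I)) ≤ 0 := by
  rw [← supportDim_quotient_smul_top]
  set N := M ⧸ (I • ⊤ : Submodule A M)
  constructor
  · intro h
    rw [Module.supportDim, Order.krullDim_eq_iSup_height, iSup_le_iff]
    intro p
    rw [show ((0 : WithBot ℕ∞)) = ((0 : ℕ∞) : WithBot ℕ∞) from rfl]
    refine WithBot.coe_le_coe.2 (le_of_eq ?_)
    rw [Order.height_eq_zero]
    intro q hq
    have hq' := (isMaximal_of_mem_support h q.1 q.2).eq_of_le p.1.isPrime.ne_top hq
    exact le_of_eq (Subtype.ext (PrimeSpectrum.ext hq'.symm))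
  · intro h
    rw [Module.supportDim_eq_ringKrullDim_quotient_annihilator] at h
    set J := Module.annihilator A N
    have : Ring.KrullDimLE 0 (A ⧸ J) := Ring.krullDimLE_iff.2 (by exact_mod_cast h)
    have : IsArtinianRing (A ⧸ J) := isArtinianRing_iff_krullDimLE_zero.2 this
    have ht : Module.IsTorsionBySet A N (J : Set A) := fun x a => Module.mem_annihilator.1 a.2 x
    let inst := ht.module
    have := ht.isScalarTower (S := A)
    have : Module.Finite (A ⧸ J) N := Module.Finite.of_restrictScalars_finite A _ _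
    let e : N →ₛₗ[Ideal.Quotient.mk J] N := ⟨.id _, fun _ _ => rfl⟩
    have hA : IsArtinian A N := (e.isArtinian_iff_of_bijective Function.bijective_id).2 inferInstance
    exact isFiniteLength_iff_isNoetherian_isArtinian.2 ⟨inferInstance, hA⟩

theorem isFiniteLength_quotient_iff (I : Ideal A) :
    IsFiniteLength A (A ⧸ I) ↔ ringKrullDim (A ⧸ I) ≤ 0 := by
  have hI : (I • ⊤ : Submodule A A) = I := by rw [smul_eq_mul, Ideal.mul_top]
  have hann : Module.annihilator A A = ⊥ := Module.annihilator_eq_bot.2 inferInstance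
  have h := isFiniteLength_quotient_smul_top_iff (M := A) I
  rw [hann, bot_sup_eq] at h
  let e := Submodule.quotEquivOfEq (I • ⊤ : Submodule A A) I hI
  exact ⟨fun hf => h.1 (e.symm.isFiniteLength hf), fun hd => e.isFiniteLength (h.2 hd)⟩

end FiniteLength

end Groth.Agent.ParamSemiLoc
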